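import Groth.Agent.RegLoc6.Basic
import Mathlib.RingTheory.KrullDimension.NonZeroDivisors
import Mathlib.RingTheory.Smooth.Basic
import Mathlib.RingTheory.Ideal.KrullsHeightTheorem
import Mathlib.RingTheory.LocalRing.ResidueField.Basic

/-!
# Local homomorphisms into regular local rings with injective cotangent map

Such a homomorphism out of a Noetherian local domain is injective (for equal residue fields), and a
formally smooth one has injective cotangent map.
-/

set_option autoImplicit false

universe u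

open IsLocalRing

namespace Groth.Agent.JacDom

/-- A formally smooth local homomorphism with surjective residue map has injective cotangent map. -/
theorem cotangent_injective_of_formallySmooth {A B : Type u} [CommRing A] [IsLocalRing A] [CommRing B]
    [IsLocalRing B] [Algebra A B] [IsLocalHom (algebraMap A B)] [Algebra.FormallySmooth A B]
    (hres : ∀ b : B, ∃ a : A, b - algebraMap A B a ∈ maximalIdeal B)
    {a : A} (_ha : a ∈ maximalIdeal A) (hb : algebraMap A B a ∈ maximalIdeal B ^ 2) :
    a ∈ maximalIdeal A ^ 2 := by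
  let κ : A →+* ResidueField B := (residue B).comp (algebraMap A B)
  have hker : ∀ x, κ x = 0 ↔ x ∈ maximalIdeal A := fun x => by
    simp [κ, residue_eq_zero_iff, mem_maximalIdeal, mem_nonunits_iff]
  have hκ : Function.Surjective κ := fun r => by
    obtain ⟨b, rfl⟩ := residue_surjective r
    obtain ⟨a, ha⟩ := hres b
    refine ⟨a, (sub_eq_zero.1 ?_).symm⟩
    show residue B b - residue B (algebraMap A B a) = 0
    rw [← map_sub]; exact (residue_eq_zero_iff _).2 ha
  let Q := A ⧸ maximalIdeal A ^ 2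
  let π : Q →ₐ[A] ResidueField B := Ideal.Quotient.liftₐ _ (Algebra.ofId A (ResidueField B))
    fun x hx => (hker x).2 (Ideal.pow_le_self two_ne_zero hx)
  have hπ : Function.Surjective π := fun r => by
    obtain ⟨x, rfl⟩ := hκ r
    exact ⟨Ideal.Quotient.mk _ x, rfl⟩
  have hkerπ : ∀ q : Q, π q = 0 → q ∈ (maximalIdeal A).map (Ideal.Quotient.mk (maximalIdeal A ^ 2)) := by
    intro q hq
    obtain ⟨x, rfl⟩ := Ideal.Quotient.mk_surjective q
    exact Ideal.mem_map_of_mem _ ((hker x).1 hq)
  let I : Ideal Q := (maximalIdeal A).map (Ideal.Quotient.mk (maximalIdeal A ^ 2))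
  have hI : I ^ 2 = ⊥ := by
    rw [← Ideal.map_pow, Ideal.map_quotient_self]
  have hπ' : RingHom.ker π.toRingHom = I := by
    refine le_antisymm (fun q hq => hkerπ q hq) ?_
    rw [Ideal.map_le_iff_le_comap]
    exact fun x hx => (hker x).2 hx
  let g : B →ₐ[A] Q := Algebra.FormallySmooth.liftOfSurjective
    (IsScalarTower.toAlgHom A B (ResidueField B)) π hπ ⟨2, by
      show RingHom.ker π.toRingHom ^ 2 = 0
      rw [hπ']; exact hI⟩
  have hmem : ∀ b ∈ maximalIdeal B, g b ∈ I := by
    intro b hb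
    refine hkerπ _ ?_
    exact (Algebra.FormallySmooth.liftOfSurjective_apply (IsScalarTower.toAlgHom A B (ResidueField B))
      π hπ _ b).trans ((residue_eq_zero_iff b).2 hb)
  have h0 : g (algebraMap A B a) = 0 := by
    have : (maximalIdeal B ^ 2).map g.toRingHom ≤ ⊥ := by
      rw [Ideal.map_pow, ← hI]
      exact Ideal.pow_right_mono (Ideal.map_le_iff_le_comap.2 hmem) 2
    exact this (Ideal.mem_map_of_mem _ hb)
  rw [g.commutes] at h0
  exact Ideal.Quotient.eq_zero_iff_mem.1 h0

theorem spanFinrank_le_dim_quotient_ker : ∀ (n : ℕ) (A B : Type u) [CommRing A] [IsLocalRing A]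
    [IsNoetherianRing A] [CommRing B] [IsRegularLocalRing B] (f : A →+* B) [IsLocalHom f],
    (maximalIdeal A).spanFinrank ≤ n →
    (∀ b : B, ∃ a : A, b - f a ∈ maximalIdeal B) →
    (∀ a ∈ maximalIdeal A, f a ∈ maximalIdeal B ^ 2 → a ∈ maximalIdeal A ^ 2) →
      ((maximalIdeal A).spanFinrank : WithBot ℕ∞) ≤ ringKrullDim (A ⧸ RingHom.ker f) := by
  intro n
  induction n with
  | zero =>
    intro A B _ _ _ _ _ f _ hr _ _
    have : Nontrivial (A ⧸ RingHom.ker f) := Ideal.Quotient.nontrivial_iff.2 (RingHom.ker_ne_top f)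
    rw [Nat.le_zero.1 hr]
    exact ringKrullDim_nonneg_of_nontrivial
  | succ n ih =>
    intro A B _ _ _ _ _ f _ hr hres hcot
    have hnt : Nontrivial (A ⧸ RingHom.ker f) := Ideal.Quotient.nontrivial_iff.2 (RingHom.ker_ne_top f)
    by_cases hA : IsField A
    · have h0 : maximalIdeal A = ⊥ := IsLocalRing.isField_iff_maximalIdeal_eq.1 hA
      rw [h0, Submodule.spanFinrank_bot]
      exact ringKrullDim_nonneg_of_nontrivial
    obtain ⟨a, ha, ha2⟩ : ∃ a ∈ maximalIdeal A, a ∉ maximalIdeal A ^ 2 := by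
      by_contra! h
      exact RegLoc6.maximalIdeal_sq_ne hA h
    have hb : f a ∈ maximalIdeal B := map_nonunit f a ha
    have hb2 : f a ∉ maximalIdeal B ^ 2 := fun h => ha2 (hcot a ha h)
    have := RegLoc6.isLocalRing_quot ha
    have := RegLoc6.isLocalRing_quot hb
    have hB1 := (RegLoc6.isRegularLocalRing_quot_and hb hb2).1
    have hle : Ideal.span {a} ≤ (Ideal.span {f a}).comap f := by
      rw [Ideal.span_le, Set.singleton_subset_iff]
      exact Ideal.subset_span rfl
    let f1 : A ⧸ Ideal.span {a} →+* B ⧸ Ideal.span {f a} := Ideal.quotientMap _ f hle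
    have hf1 : ∀ x, f1 (Ideal.Quotient.mk _ x) = Ideal.Quotient.mk _ (f x) := fun x => rfl
    have hmA : ∀ x, Ideal.Quotient.mk (Ideal.span {a}) x ∈ maximalIdeal _ ↔ x ∈ maximalIdeal A := fun x => by
      rw [← RegLoc6.map_maximalIdeal_quot, Ideal.mem_quotient_iff_mem_sup,
        sup_eq_left.2 ((Ideal.span_singleton_le_iff_mem _).2 ha)]
    have hmB : ∀ x, Ideal.Quotient.mk (Ideal.span {f a}) x ∈ maximalIdeal _ ↔ x ∈ maximalIdeal B := fun x => by
      rw [← RegLoc6.map_maximalIdeal_quot, Ideal.mem_quotient_iff_mem_sup,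
        sup_eq_left.2 ((Ideal.span_singleton_le_iff_mem _).2 hb)]
    have : IsLocalHom f1 := ⟨fun x hx => by
      obtain ⟨x, rfl⟩ := Ideal.Quotient.mk_surjective x
      rw [hf1] at hx
      have : x ∉ maximalIdeal A := fun h => (hmB _).2 (map_nonunit f x h) hx
      exact (not_not.1 fun h => this ((hmA x).1 h))⟩
    have hn : (maximalIdeal (A ⧸ Ideal.span {a})).spanFinrank ≤ n := by
      have := RegLoc6.spanFinrank_quot_le ha ha2; omega
    have key := ih (A ⧸ Ideal.span {a}) (B ⧸ Ideal.span {f a}) f1 hn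
      (fun y => by
        obtain ⟨y, rfl⟩ := Ideal.Quotient.mk_surjective y
        obtain ⟨x, hx⟩ := hres y
        exact ⟨Ideal.Quotient.mk _ x, by rw [hf1, ← map_sub, hmB]; exact hx⟩)
      (fun y hy hy2 => by
        obtain ⟨x, rfl⟩ := Ideal.Quotient.mk_surjective y
        rw [hf1, ← RegLoc6.map_maximalIdeal_quot, ← Ideal.map_pow, Ideal.mem_quotient_iff_mem_sup,
          Submodule.mem_sup] at hy2
        obtain ⟨c, hc, d, hd, hcd⟩ := hy2
        obtain ⟨e, rfl⟩ := Ideal.mem_span_singleton'.1 hd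
        obtain ⟨t, ht⟩ := hres e
        have h2 : x - t * a ∈ maximalIdeal A ^ 2 := by
          refine hcot _ (sub_mem ((hmA x).1 hy) (Ideal.mul_mem_left _ _ ha)) ?_
          have : f (x - t * a) = c + (e - f t) * f a := by rw [map_sub, map_mul, ← hcd]; ring
          rw [this]
          exact add_mem hc (sq (maximalIdeal B) ▸ Ideal.mul_mem_mul ht hb)
        rw [← RegLoc6.map_maximalIdeal_quot, ← Ideal.map_pow, Ideal.mem_quotient_iff_mem_sup,
          Submodule.mem_sup]
        exact ⟨_, h2, _, Ideal.mul_mem_left _ t (Ideal.subset_span rfl), sub_add_cancel x (t * a)⟩)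
    have hB : IsDomain B := RegLoc6.isDomain_of_isRegularLocalRing B
    have hdom : IsDomain (A ⧸ RingHom.ker f) := by
      have : (RingHom.ker f).IsPrime := RingHom.ker_isPrime f
      infer_instance
    have hfa : f a ≠ 0 := fun h => hb2 (h ▸ Submodule.zero_mem _)
    have hnz : Ideal.Quotient.mk (RingHom.ker f) a ∈ nonZeroDivisors (A ⧸ RingHom.ker f) :=
      mem_nonZeroDivisors_of_ne_zero fun h => hfa (RingHom.mem_ker.1 (Ideal.Quotient.eq_zero_iff_mem.1 h))
    let g : ((A ⧸ RingHom.ker f) ⧸ Ideal.span {Ideal.Quotient.mk (RingHom.ker f) a}) →+*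
        ((A ⧸ Ideal.span {a}) ⧸ RingHom.ker f1) :=
      Ideal.Quotient.lift _ (Ideal.Quotient.lift _
        ((Ideal.Quotient.mk (RingHom.ker f1)).comp (Ideal.Quotient.mk (Ideal.span {a})))
        fun x hx => by
          rw [RingHom.comp_apply, Ideal.Quotient.eq_zero_iff_mem, RingHom.mem_ker, hf1,
            RingHom.mem_ker.1 hx, map_zero])
        fun x hx => by
          obtain ⟨y, rfl⟩ := Ideal.mem_span_singleton'.1 hx
          have h0 : Ideal.Quotient.mk (Ideal.span {a}) a = 0 :=
            Ideal.Quotient.eq_zero_iff_mem.2 (Ideal.mem_span_singleton_self a)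
          rw [map_mul, Ideal.Quotient.lift_mk]
          simp only [RingHom.comp_apply, h0, map_zero, mul_zero]
    have hg : Function.Surjective g := fun y => by
      obtain ⟨y, rfl⟩ := Ideal.Quotient.mk_surjective y
      obtain ⟨x, rfl⟩ := Ideal.Quotient.mk_surjective y
      exact ⟨Ideal.Quotient.mk _ (Ideal.Quotient.mk _ x), rfl⟩
    calc ((maximalIdeal A).spanFinrank : WithBot ℕ∞)
        ≤ ((maximalIdeal (A ⧸ Ideal.span {a})).spanFinrank : WithBot ℕ∞) + 1 := by
          exact_mod_cast RegLoc6.spanFinrank_le_quot ha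
      _ ≤ ringKrullDim ((A ⧸ Ideal.span {a}) ⧸ RingHom.ker f1) + 1 := add_le_add_left key 1
      _ ≤ ringKrullDim ((A ⧸ RingHom.ker f) ⧸ Ideal.span {Ideal.Quotient.mk (RingHom.ker f) a}) + 1 :=
          add_le_add_left (ringKrullDim_le_of_surjective g hg) 1
      _ ≤ ringKrullDim (A ⧸ RingHom.ker f) := ringKrullDim_quotient_succ_le_of_nonZeroDivisor hnz

/-- A local homomorphism from a Noetherian local domain to a regular local ring with the same residue
field and injective cotangent map is injective. -/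
theorem injective_of_cotangent_injective {A B : Type u} [CommRing A] [IsLocalRing A] [IsNoetherianRing A]
    [IsDomain A] [CommRing B] [IsRegularLocalRing B] (f : A →+* B) [IsLocalHom f]
    (hres : ∀ b : B, ∃ a : A, b - f a ∈ maximalIdeal B)
    (hcot : ∀ a ∈ maximalIdeal A, f a ∈ maximalIdeal B ^ 2 → a ∈ maximalIdeal A ^ 2) :
    Function.Injective f := by
  rw [injective_iff_map_eq_zero]
  intro x hx
  by_contra hne
  have h1 := spanFinrank_le_dim_quotient_ker _ A B f le_rfl hres hcot
  have h2 := ringKrullDim_le_spanFinrank_maximalIdeal A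
  have h3 : ringKrullDim (A ⧸ Ideal.span {x}) + 1 ≤ ringKrullDim A :=
    ringKrullDim_quotient_succ_le_of_nonZeroDivisor (mem_nonZeroDivisors_of_ne_zero hne)
  have h4 : ringKrullDim (A ⧸ RingHom.ker f) ≤ ringKrullDim (A ⧸ Ideal.span {x}) :=
    ringKrullDim_le_of_surjective (Ideal.Quotient.factor ((Ideal.span_singleton_le_iff_mem _).2 hx))
      (Ideal.Quotient.factor_surjective _)
  have h5 : ((maximalIdeal A).spanFinrank : WithBot ℕ∞) + 1 ≤ ((maximalIdeal A).spanFinrank : WithBot ℕ∞) :=
    ((add_le_add_left (h1.trans h4) 1).trans h3).trans h2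
  have h6 : (maximalIdeal A).spanFinrank + 1 ≤ (maximalIdeal A).spanFinrank := by exact_mod_cast h5
  omega

end Groth.Agent.JacDom
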