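import Groth.Agent.JacDom.RegInj
import Groth.Agent.VarDim.Fibre
import Groth.Agent.VarDim.IrredFibres
import Groth.Agent.SmoothReg.Scheme
import Groth.Agent.FlatMisc.SmoothGeneric
import Groth.Agent.GrpSchLib.Reduced
import Mathlib.AlgebraicGeometry.AlgClosed.Basic

/-!
# Dominance of morphisms of varieties
-/

set_option autoImplicit false
set_option linter.style.haveILetI false

universe u

open CategoryTheory AlgebraicGeometry TopologicalSpace

namespace Groth.Agent.JacDom

variable {k : Type u} [Field k] {X Y Z : Scheme.{u}}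
  (pX : X ⟶ Spec (CommRingCat.of k)) (pY : Y ⟶ Spec (CommRingCat.of k)) (pZ : Z ⟶ Spec (CommRingCat.of k))
  [LocallyOfFiniteType pX] [LocallyOfFiniteType pY] [LocallyOfFiniteType pZ]

/-- A dominant morphism from a quasi-compact scheme hits the generic point. -/
theorem exists_map_genericPoint [CompactSpace X] [IrreducibleSpace Y] (u : X ⟶ Y) [IsDominant u]
    (p : X ⟶ Spec (CommRingCat.of k)) [LocallyOfFiniteType p] :
    ∃ x, u x = genericPoint Y :=
  VarDim.mem_range_of_maximal p u (u.denseRange.closure_eq ▸ Set.mem_univ _)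
    fun y hy => (hy.antisymm (genericPoint_specializes y)).eq

include pX in
/-- Dominance through a generically finite map of irreducible varieties of equal dimension. -/
theorem isDominant_of_comp [CompactSpace X] [IrreducibleSpace Y] [IrreducibleSpace Z]
    (hdim : topologicalKrullDim Y = topologicalKrullDim Z) (ρ : X ⟶ Y) (η : Y ⟶ Z) (hη : η ≫ pZ = pY)
    [IsDominant (ρ ≫ η)] : IsDominant ρ := by
  obtain ⟨x, hx⟩ := exists_map_genericPoint (Y := Z) (ρ ≫ η) pX
  rw [VarDim.topologicalKrullDim_eq_deg_genericPoint pY,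
    VarDim.topologicalKrullDim_eq_deg_genericPoint pZ] at hdim
  have hd : VarDim.deg pY (genericPoint Y) = VarDim.deg pZ (genericPoint Z) := by exact_mod_cast hdim
  have h2 : VarDim.deg pZ (genericPoint Z) ≤ VarDim.deg pY (ρ x) := by
    rw [← hx, Scheme.Hom.comp_apply]
    exact VarDim.deg_map_le η pZ hη (ρ x)
  have h3 : ρ x = genericPoint Y :=
    (VarDim.eq_of_specializes_of_deg_le pY (genericPoint_specializes (ρ x)) (hd ▸ h2)).symm
  refine ⟨dense_iff_closure_eq.2 (Set.eq_univ_of_univ_subset ?_)⟩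
  rw [← genericPoint_closure]
  exact closure_mono (Set.singleton_subset_iff.2 ⟨x, h3⟩)

/-- The residue map at a closed point over an algebraically closed field is surjective. -/
theorem residue_surjective [IsAlgClosed k] (u : X ⟶ Y) (hu : u ≫ pY = pX) {P : X}
    (hP : IsClosed ({P} : Set X)) (b : X.presheaf.stalk P) :
    ∃ a : Y.presheaf.stalk (u P),
      b - (u.stalkMap P).hom a ∈ IsLocalRing.maximalIdeal (X.presheaf.stalk P) := by
  have hy : IsClosed ({u P} : Set Y) := by
    refine (VarDim.closedPoint_iff_deg_eq_zero pY _).2 (Nat.le_zero.1 ?_)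
    rw [← (VarDim.closedPoint_iff_deg_eq_zero pX P).1 hP]
    exact VarDim.deg_map_le u pY hu P
  have key : (residueFieldIsoBase pY (u P) hy).inv ≫ u.residueFieldMap P =
      (residueFieldIsoBase pX P hP).inv := by
    apply Spec.map_injective
    rw [Spec.map_comp, SpecMap_residueFieldIsoBase_inv, SpecMap_residueFieldIsoBase_inv,
      Scheme.Hom.SpecMap_residueFieldMap_fromSpecResidueField_assoc, hu]
  have hsurj : Function.Surjective (u.residueFieldMap P).hom := by
    intro r
    obtain ⟨c, hc⟩ := (ConcreteCategory.bijective_of_isIso (residueFieldIsoBase pX P hP).inv).2 r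
    exact ⟨(residueFieldIsoBase pY (u P) hy).inv.hom c, (congr(($key).hom c)).trans hc⟩
  obtain ⟨r, hr⟩ := hsurj (IsLocalRing.residue _ b)
  obtain ⟨a, rfl⟩ := IsLocalRing.residue_surjective r
  refine ⟨a, (IsLocalRing.residue_eq_zero_iff _).1 ?_⟩
  rw [map_sub, sub_eq_zero]
  exact hr.symm

theorem cotangent_injective_of_ringHom {A B : Type u} [CommRing A] [IsLocalRing A] [CommRing B]
    [IsLocalRing B] (f : A →+* B) [IsLocalHom f] (hf : f.FormallySmooth)
    (hres : ∀ b : B, ∃ a : A, b - f a ∈ IsLocalRing.maximalIdeal B)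
    {a : A} (ha : a ∈ IsLocalRing.maximalIdeal A) (hb : f a ∈ IsLocalRing.maximalIdeal B ^ 2) :
    a ∈ IsLocalRing.maximalIdeal A ^ 2 := by
  algebraize [f]
  haveI : IsLocalHom (algebraMap A B) := ‹IsLocalHom f›
  exact cotangent_injective_of_formallySmooth hres ha hb

/-- Backward direction of the differential criterion. -/
theorem isDominant_of_cotangent_injective [IsAlgClosed k] [IsIntegral Y] (u : X ⟶ Y) (hu : u ≫ pY = pX)
    {P : X} (hP : IsClosed ({P} : Set X)) (hreg : IsRegularLocalRing (X.presheaf.stalk P))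
    (hcot : ∀ a ∈ IsLocalRing.maximalIdeal (Y.presheaf.stalk (u P)),
      (u.stalkMap P).hom a ∈ IsLocalRing.maximalIdeal (X.presheaf.stalk P) ^ 2 →
        a ∈ IsLocalRing.maximalIdeal (Y.presheaf.stalk (u P)) ^ 2) :
    IsDominant u := by
  haveI : IsLocallyNoetherian Y := LocallyOfFiniteType.isLocallyNoetherian pY
  haveI := RegLoc6.isDomain_of_isRegularLocalRing (X.presheaf.stalk P)
  have hinj : Function.Injective (u.stalkMap P).hom :=
    injective_of_cotangent_injective (u.stalkMap P).hom (residue_surjective pX pY u hu hP) hcot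
  let η : X := X.fromSpecStalk P (⊥ : PrimeSpectrum (X.presheaf.stalk P))
  have hη : u η = genericPoint Y := by
    have h1 : u η = Y.fromSpecStalk (u P) (Spec.map (u.stalkMap P) (⊥ : PrimeSpectrum (X.presheaf.stalk P))) :=
      (congr(($(Scheme.SpecMap_stalkMap_fromSpecStalk (f := u) (x := P))).base
        (⊥ : PrimeSpectrum (X.presheaf.stalk P)))).symm
    have h2 : Spec.map (u.stalkMap P) (⊥ : PrimeSpectrum (X.presheaf.stalk P)) =
        (⊥ : PrimeSpectrum (Y.presheaf.stalk (u P))) :=
      PrimeSpectrum.ext ((RingHom.ker_eq_comap_bot _).symm.trans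
        ((RingHom.injective_iff_ker_eq_bot _).1 hinj))
    rw [h1, h2]
    have hg : genericPoint Y ∈ Set.range (Y.fromSpecStalk (u P)) := by
      rw [Scheme.range_fromSpecStalk]
      exact genericPoint_specializes _
    obtain ⟨q, hq⟩ := hg
    refine ((genericPoint_specializes _).antisymm ?_).eq.symm
    rw [← hq]
    exact ((PrimeSpectrum.le_iff_specializes _ _).1 bot_le).map (Y.fromSpecStalk (u P)).continuous
  refine ⟨dense_iff_closure_eq.2 (Set.eq_univ_of_univ_subset ?_)⟩
  rw [← genericPoint_closure, ← hη]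
  exact closure_mono (Set.singleton_subset_iff.2 ⟨η, rfl⟩)

/-- A dominant morphism to an integral scheme in characteristic zero is smooth at the generic point
of an integral source. -/
theorem genericPoint_mem_smoothLocus {X Y : Scheme.{u}} (pY : Y ⟶ Spec (CommRingCat.of k)) [IsIntegral X]
    [IsIntegral Y] [CharZero k] (u : X ⟶ Y) [LocallyOfFinitePresentation u] (hη : u (genericPoint X) = genericPoint Y) :
    genericPoint X ∈ u.smoothLocus := by
  obtain ⟨U, hU, hηU, -⟩ := exists_isAffineOpen_mem_and_subset (x := genericPoint Y) (U := (⊤ : Y.Opens))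
    (by simp)
  obtain ⟨V, hV, hξV, hVU⟩ := exists_isAffineOpen_mem_and_subset (x := genericPoint X) (U := u ⁻¹ᵁ U)
    (show u (genericPoint X) ∈ U by rw [hη]; exact hηU)
  replace hVU : V ≤ u ⁻¹ᵁ U := hVU
  haveI : Nonempty U := ⟨⟨_, hηU⟩⟩
  haveI : Nonempty V := ⟨⟨_, hξV⟩⟩
  letI := (u.appLE U V hVU).hom.toAlgebra
  haveI : FaithfulSMul Γ(Y, U) Γ(X, V) := by
    rw [faithfulSMul_iff_algebraMap_injective]
    refine (injective_iff_map_eq_zero _).mpr fun a ha => ?_
    by_contra ha0
    have hne : genericPoint Y ∈ Y.basicOpen a := by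
      refine ((genericPoint_spec Y).mem_open_set_iff (Y.basicOpen a).isOpen).mpr ?_
      rw [Set.univ_inter, Set.nonempty_iff_ne_empty]
      exact fun hh => ha0 ((basicOpen_eq_bot_iff a).mp (SetLike.coe_injective (hh.trans Opens.coe_bot.symm)))
    have h1 : genericPoint X ∈ X.basicOpen (u.appLE U V hVU a) := by
      rw [Scheme.basicOpen_appLE]
      exact ⟨hξV, show u (genericPoint X) ∈ Y.basicOpen a by rw [hη]; exact hne⟩
    rw [show u.appLE U V hVU a = 0 from ha, Scheme.basicOpen_zero] at h1
    exact h1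
  haveI : Algebra.FiniteType Γ(Y, U) Γ(X, V) := u.finiteType_appLE hU hV hVU
  let K := FractionRing Γ(Y, U)
  haveI : CharZero K := by
    have φ : k →+* K := (algebraMap Γ(Y, U) K).comp ((pY.appLE ⊤ U (by simp)).hom.comp
      (Scheme.ΓSpecIso (CommRingCat.of k)).inv.hom)
    exact charZero_of_injective_ringHom φ.injective
  haveI : _root_.IsReduced (TensorProduct Γ(Y, U) K Γ(X, V)) := by
    letI : Algebra Γ(X, V) (TensorProduct Γ(Y, U) K Γ(X, V)) := Algebra.TensorProduct.rightAlgebra
    haveI : IsLocalization (Algebra.algebraMapSubmonoid Γ(X, V) (nonZeroDivisors Γ(Y, U)))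
        (TensorProduct Γ(Y, U) K Γ(X, V)) :=
      IsLocalization.tensorRight (S := Γ(X, V)) (A := K) (nonZeroDivisors Γ(Y, U))
    exact isReduced_localizationPreserves (Algebra.algebraMapSubmonoid Γ(X, V) (nonZeroDivisors Γ(Y, U)))
      _ inferInstance
  haveI : Algebra.IsGeometricallyReduced K (TensorProduct Γ(Y, U) K Γ(X, V)) :=
    GrpSchLib.isGeometricallyReduced_of_isReduced K _
  have hs := FlatMisc.SmoothGeneric.isSmoothAt_bot (R := Γ(Y, U)) (S := Γ(X, V)) K
  rw [Scheme.Hom.mem_smoothLocus, formallySmooth_stalkMap_iff U hU V hV hVU hξV]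
  have hp : (hV.primeIdealOf ⟨genericPoint X, hξV⟩).asIdeal = ⊥ := by
    rw [hV.primeIdealOf_genericPoint, genericPoint_eq_bot_of_affine]
    rfl
  show Algebra.IsSmoothAt _ (hV.primeIdealOf ⟨genericPoint X, hξV⟩).asIdeal
  simpa only [hp] using hs

/-- Forward direction of the differential criterion. -/
theorem exists_closedPoint_cotangent_injective [IsAlgClosed k] [CharZero k] [CompactSpace X]
    [AlgebraicGeometry.IsReduced X] [IsIntegral Y] (u : X ⟶ Y) (hu : u ≫ pY = pX) [IsDominant u] :
    ∃ P : X, IsClosed ({P} : Set X) ∧ IsRegularLocalRing (X.presheaf.stalk P) ∧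
      ∀ a ∈ IsLocalRing.maximalIdeal (Y.presheaf.stalk (u P)),
        (u.stalkMap P).hom a ∈ IsLocalRing.maximalIdeal (X.presheaf.stalk P) ^ 2 →
          a ∈ IsLocalRing.maximalIdeal (Y.presheaf.stalk (u P)) ^ 2 := by
  haveI : IsLocallyNoetherian Y := LocallyOfFiniteType.isLocallyNoetherian pY
  haveI : LocallyOfFiniteType u := by
    haveI : LocallyOfFiniteType (u ≫ pY) := hu ▸ inferInstance
    exact locallyOfFiniteType_of_comp u pY
  haveI : LocallyOfFinitePresentation u := inferInstance
  obtain ⟨x₀, hx₀⟩ := exists_map_genericPoint (Y := Y) u pX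
  obtain ⟨z, hz, hzmax⟩ := VarDim.exists_maximal_generalization pX x₀
  have hzY : u z = genericPoint Y := by
    have := hz.map u.continuous
    rw [hx₀] at this
    exact (this.antisymm (genericPoint_specializes _)).eq
  obtain ⟨W, hzW, hW⟩ := VarDim.exists_nhd_component pX hzmax
  haveI : Nonempty W := ⟨⟨z, hzW⟩⟩
  have hgenW : ∀ w ∈ W, z ⤳ w := fun w hw => by
    obtain ⟨y, hy, hymax⟩ := VarDim.exists_maximal_generalization pX w
    exact hW w hw y hymax hy ▸ hy
  haveI : IrreducibleSpace W := by
    haveI : PreirreducibleSpace W := ⟨by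
      have : closure ({⟨z, hzW⟩} : Set W) = Set.univ := Set.eq_univ_of_forall fun w =>
        specializes_iff_mem_closure.1 ((subtype_specializes_iff _ _).2 (hgenW w.1 w.2))
      rw [← this]
      exact isIrreducible_singleton.closure.isPreirreducible⟩
    exact { toNonempty := ⟨⟨z, hzW⟩⟩ }
  haveI : IsIntegral W.toScheme := isIntegral_of_irreducibleSpace_of_isReduced _
  have hgen : W.ι (genericPoint W.toScheme) = z := by
    refine (Specializes.antisymm ?_ (hgenW _ (genericPoint W.toScheme).2)).eq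
    exact (genericPoint_specializes (α := W.toScheme) ⟨z, hzW⟩).map W.ι.continuous
  have hsm : genericPoint W.toScheme ∈ (W.ι ≫ u).smoothLocus :=
    genericPoint_mem_smoothLocus pY (W.ι ≫ u) (by
      rw [Scheme.Hom.comp_apply, hgen, hzY])
  haveI : LocallyOfFinitePresentation pY := inferInstance
  haveI : LocallyOfFinitePresentation pX := inferInstance
  haveI : IsDomain (Y.presheaf.stalk (genericPoint Y)) := inferInstance
  have hYgen : genericPoint Y ∈ pY.smoothLocus := by
    rw [SmoothReg.mem_smoothLocus_iff_isRegularLocalRing]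
    exact inferInstanceAs (IsRegularLocalRing Y.functionField)
  obtain ⟨c, ⟨hc1, hc2⟩, -, hc⟩ := VarDim.exists_closed_mem (W.ι ≫ pX)
    (U := (W.ι ≫ u).smoothLocus ⊓ (W.ι ≫ u) ⁻¹ᵁ pY.smoothLocus) (z := genericPoint W.toScheme)
    ⟨hsm, show (W.ι ≫ u) (genericPoint W.toScheme) ∈ pY.smoothLocus by
      rw [Scheme.Hom.comp_apply, hgen, hzY]; exact hYgen⟩
  have hcl : IsClosed ({W.ι c} : Set X) := by
    refine (VarDim.closedPoint_iff_deg_eq_zero pX _).2 ?_
    rw [← (VarDim.closedPoint_iff_deg_eq_zero (W.ι ≫ pX) c).1 hc]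
    exact (VarDim.deg_comp pX W.ι c).symm
  have hsmu : ((u.stalkMap (W.ι c)).hom).FormallySmooth := by
    have h := (Scheme.Hom.mem_smoothLocus (f := W.ι ≫ u)).1 hc1
    rw [Scheme.Hom.stalkMap_comp] at h
    exact (RingHom.FormallySmooth.respectsIso.cancel_right_isIso _ (W.ι.stalkMap c)).1 h
  refine ⟨W.ι c, hcl, ?_, ?_⟩
  · have hcomp : W.ι c ∈ pX.smoothLocus := by
      rw [Scheme.Hom.mem_smoothLocus]
      subst hu
      rw [Scheme.Hom.stalkMap_comp]
      exact RingHom.FormallySmooth.stableUnderComposition _ _ ((Scheme.Hom.mem_smoothLocus (f := pY)).1 hc2) hsmu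
    exact SmoothReg.isRegularLocalRing_stalk_of_mem_smoothLocus pX hcomp
  · intro a ha hb
    exact cotangent_injective_of_ringHom (u.stalkMap (W.ι c)).hom hsmu
      (residue_surjective pX pY u hu hcl) ha hb

end Groth.Agent.JacDom
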